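import Groth.Agent.L03.VBPn.Tango.Alg
import Groth.Agent.L22.SyzTilde.Exact
import Groth.Agent.L03.VBPn.CotEnd

/-!
# Matrices of homogeneous forms as maps of sums of twists
-/

set_option autoImplicit false
set_option linter.style.haveILetI false
set_option linter.unusedSectionVars false
set_option backward.isDefEq.respectTransparency false
set_option backward.isDefEq.respectTransparency.types false

universe u

open CategoryTheory CategoryTheory.Limits AlgebraicGeometry TopologicalSpace Opposite
open Groth.L22.SyzTilde (G S PS Fr pr st theta matHom mulHom toLoc evalT evalT_mulHom theta_matHom theta_injective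
  theta_zero exists_theta_eq st_comp eq_zero_of_stalks ι_pr_self ι_pr_ne sum_pr_ι mem_G_cast)

noncomputable section

namespace Groth.L03.VBPn.Tango

variable {k : Type u} [Field k] {r : ℕ}

theorem toLoc_eq (x : ProjectiveSpectrum (CohB1.polyGrading r k)) (p : S r k) :
    toLoc x p = algebraMap (S r k) (Twist.Loc (CohB1.polyGrading r k) x) p :=
  Localization.mk_one_eq_algebraMap p

theorem toLoc_injective (x : ProjectiveSpectrum (CohB1.polyGrading r k)) :
    Function.Injective (algebraMap (S r k) (Twist.Loc (CohB1.polyGrading r k) x)) :=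
  IsLocalization.injective _ x.asHomogeneousIdeal.toIdeal.primeCompl_le_nonZeroDivisors

theorem hom_ext_theta {N N' : ℕ} {deg : Fin N → ℤ} {deg' : Fin N' → ℤ}
    {f g : Fr (r := r) (k := k) deg' ⟶ Fr deg}
    (h : ∀ x z a, theta deg x (st x f z) a = theta deg x (st x g z) a) : f = g :=
  Groth.L21.Mod.hom_ext_stalk fun x => ConcreteCategory.hom_ext _ _ fun z =>
    theta_injective deg x (funext (h x z))

section Comp

variable {N N' N'' : ℕ} {deg : Fin N → ℤ} {deg' : Fin N' → ℤ} {deg'' : Fin N'' → ℤ}
  (d : Fin N → Fin N' → S r k) (hd : ∀ a b, d a b ∈ G r k (deg' b - deg a))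
  (e : Fin N' → Fin N'' → S r k) (he : ∀ a b, e a b ∈ G r k (deg'' b - deg' a))

theorem theta_comp (x : ProjectiveSpectrum (CohB1.polyGrading r k))
    (z : (Groth.L21.Mod.stalkF (PS r k) x).obj (Fr deg'')) (a : Fin N) :
    theta deg x (st x (matHom e he ≫ matHom d hd) z) a =
      ∑ c, algebraMap (S r k) (Twist.Loc (CohB1.polyGrading r k) x) (∑ b, d a b * e b c) * theta deg'' x z c := by
  rw [st_comp, theta_matHom]
  simp only [theta_matHom, toLoc_eq, map_sum, map_mul, Finset.sum_mul, Finset.mul_sum]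
  rw [Finset.sum_comm]
  exact Finset.sum_congr rfl fun c _ => Finset.sum_congr rfl fun b _ => (mul_assoc _ _ _).symm

theorem comp_eq_zero (h : ∀ a c, ∑ b, d a b * e b c = 0) : matHom e he ≫ matHom d hd = 0 :=
  hom_ext_theta fun x z a => by
    rw [theta_comp, Groth.L22.SyzTilde.st_zero, theta_zero]
    exact Finset.sum_eq_zero fun c _ => by rw [h, map_zero, zero_mul]

variable {M : ℕ} {degM : Fin M → ℤ}
  (d' : Fin N → Fin M → S r k) (hd' : ∀ a b, d' a b ∈ G r k (degM b - deg a))
  (e' : Fin M → Fin N'' → S r k) (he' : ∀ a b, e' a b ∈ G r k (deg'' b - degM a))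

/-- Equal composites have equal products, when the source is free. -/
theorem mul_eq_of_comp_eq (h0 : ∀ c, deg'' c = 0) (h : matHom e he ≫ matHom d hd = matHom e' he' ≫ matHom d' hd')
    (x : ProjectiveSpectrum (CohB1.polyGrading r k)) (a : Fin N) (c : Fin N'') :
    ∑ b, d a b * e b c = ∑ b, d' a b * e' b c := by
  classical
  obtain ⟨z, hz⟩ := exists_theta_eq deg'' x (j := 0) ⟨1, SetLike.GradedOne.one_mem⟩
    (Groth.L16.ProjTwist.one_notMem _ x) (Pi.single c 1) fun a' => by
      rw [h0, show ((0 : ℕ) : ℤ) - 0 = ((0 : ℕ) : ℤ) from sub_zero _, mem_G_cast]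
      by_cases hac : a' = c
      · subst hac
        rw [Pi.single_eq_same]
        exact SetLike.GradedOne.one_mem
      · rw [Pi.single_eq_of_ne hac]
        exact zero_mem _
  have key : ∀ f : Fin N'' → S r k,
      ∑ c', algebraMap (S r k) (Twist.Loc (CohB1.polyGrading r k) x) (f c') * theta deg'' x z c' =
        algebraMap (S r k) (Twist.Loc (CohB1.polyGrading r k) x) (f c) := fun f => by
    rw [Finset.sum_eq_single c]
    · rw [hz, Pi.single_eq_same, show (⟨1, _⟩ : x.asHomogeneousIdeal.toIdeal.primeCompl) = 1 from rfl,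
        Localization.mk_one, mul_one]
    · intro c' _ hc'
      rw [hz, Pi.single_eq_of_ne hc', Localization.mk_zero, mul_zero]
    · exact fun h => absurd (Finset.mem_univ c) h
  refine toLoc_injective x ?_
  rw [← key fun c' => ∑ b, d a b * e b c', ← key fun c' => ∑ b, d' a b * e' b c', ← theta_comp d hd e he,
    ← theta_comp d' hd' e' he', h]

end Comp

/-- A scalar is multiplication by a constant. -/
theorem smul_id_eq_mulHom (m : ℤ) (c : k) (hc : MvPolynomial.C c ∈ G r k 0) :
    c • 𝟙 (Twist.twist (CohB1.polyGrading r k) m : (CohB1.ProjSpace r k).Modules) =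
      mulHom (n := m) (n' := m) hc (add_zero m) := by
  refine Scheme.Modules.hom_ext _ _ fun U => ConcreteCategory.hom_ext _ _ fun f => ?_
  refine (KLin.smul_app_apply c (𝟙 _) U f).trans ?_
  refine Subtype.ext (funext fun x => Subtype.ext ?_)
  refine (Twist.coe_smul_val _ _ _ _).trans ?_
  show _ = toLoc x.1 (MvPolynomial.C c) * _
  congr 1
  exact Groth.L16.ProjSpace.toGlobal_apply_val c ⟨x.1, trivial⟩

theorem C_mem_G (c : k) : (MvPolynomial.C c : S r k) ∈ G r k 0 := by
  refine (mem_G_cast (i := 0)).2 ?_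
  exact MvPolynomial.isHomogeneous_C _ _

/-- A map of sums of one twist is a matrix of constants. -/
theorem exists_eq_matHom {N N' : ℕ} (d : ℤ) (g : Fr (r := r) (k := k) (fun _ : Fin N' => d) ⟶ Fr (fun _ : Fin N => d)) :
    ∃ A : Fin N → Fin N' → k,
      g = matHom (fun a b => MvPolynomial.C (A a b)) (fun a b => by rw [sub_self]; exact C_mem_G _) := by
  have he := Groth.L03.VBPn.nonempty_inv_twist r k (-d)
  obtain ⟨e⟩ := he
  have hA : ∀ a b, ∃ c : k, Sigma.ι (fun _ : Fin N' => Twist.twist (CohB1.polyGrading r k) (-d)) b ≫ g ≫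
      pr (fun _ : Fin N => d) a = c • 𝟙 (Twist.twist (CohB1.polyGrading r k) (-d) : (CohB1.ProjSpace r k).Modules) :=
    fun a b => Groth.L03.VBPn.exists_eq_smul_id (Groth.L03.VBPn.toGlobal_bij r k) e _
  choose A hA using hA
  refine ⟨A, ?_⟩
  have h0 : g = (∑ b, pr (fun _ : Fin N' => d) b ≫ Sigma.ι (fun _ : Fin N' => Twist.twist (CohB1.polyGrading r k) (-d)) b) ≫
      g ≫ ∑ a, pr (fun _ : Fin N => d) a ≫ Sigma.ι (fun _ : Fin N => Twist.twist (CohB1.polyGrading r k) (-d)) a := by
    rw [sum_pr_ι, sum_pr_ι, Category.id_comp, Category.comp_id]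
  rw [h0, matHom]
  simp only [Preadditive.comp_sum, Preadditive.sum_comp, Category.assoc]
  refine Finset.sum_congr rfl fun a _ => Finset.sum_congr rfl fun b _ => ?_
  rw [← Category.assoc g, ← Category.assoc (Sigma.ι _ b)]
  congr 2
  exact (hA a b).trans (smul_id_eq_mulHom (-d) (A a b) (C_mem_G _))

end Groth.L03.VBPn.Tango
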