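import Groth.Agent.L03.VBPn.Tango.Bundle

/-!
# The Tango bundle is simple
-/

set_option autoImplicit false
set_option linter.style.haveILetI false
set_option linter.unusedSectionVars false
set_option backward.isDefEq.respectTransparency false
set_option backward.isDefEq.respectTransparency.types false

universe u

open CategoryTheory CategoryTheory.Limits CategoryTheory.Abelian AlgebraicGeometry TopologicalSpace Opposite
open Groth.L22.SyzTilde (G S PS Fr pr st matHom)
open Groth.L22.Reg (O' tw')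

noncomputable section

namespace Groth.L03.VBPn.Tango

theorem ext_sigma_right {X : Scheme.{u}} [HasExt.{u} X.Modules] {N : ℕ} (M : Fin N → X.Modules) (A : X.Modules) (i : ℕ)
    (h : ∀ j, Subsingleton (Ext A (M j) i)) : Subsingleton (Ext A (∐ M) i) := by
  classical
  refine subsingleton_of_forall_eq 0 fun x => ?_
  let p : ∀ j, ∐ M ⟶ M j := fun j => Sigma.desc fun l => if hl : l = j then eqToHom (by rw [hl]) else 0
  have hsum : ∑ j, p j ≫ Sigma.ι M j = 𝟙 (∐ M) := Sigma.hom_ext _ _ fun l => by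
    rw [Preadditive.comp_sum, Category.comp_id, Finset.sum_eq_single l]
    · simp [p]
    · intro j _ hj
      simp [p, Ne.symm hj]
    · exact fun hl => absurd (Finset.mem_univ l) hl
  rw [← Ext.comp_mk₀_id x, ← hsum, Ext.mk₀_sum, Ext.comp_sum]
  refine Finset.sum_eq_zero fun j _ => ?_
  rw [← Ext.mk₀_comp_mk₀, ← Ext.comp_assoc_of_third_deg_zero,
    @Subsingleton.elim _ (h j) (x.comp (Ext.mk₀ (p j)) (add_zero i)) 0, Ext.zero_comp]

variable (n : ℕ) (k : Type u) [Field k]

theorem ext_twist [HasExt.{u} (PS n k).Modules] (a b : ℤ) (i : ℕ)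
    (h : Subsingleton (Coh.HH (CohB1.ProjSpace n k) (O' n k (b - a)) (i + 1))) :
    Subsingleton (Ext (C := (PS n k).Modules) (Twist.twist (CohB1.polyGrading n k) a)
      (Twist.twist (CohB1.polyGrading n k) b) (i + 1)) := by
  haveI : HasExt.{u} (CohB1.ProjSpace n k).Modules := ‹HasExt.{u} (PS n k).Modules›
  obtain ⟨e⟩ := Groth.L03.VBPn.nonempty_inv_twist n k a
  obtain ⟨e'⟩ := Groth.L22.Reg.nonempty_O_add (n := n) (R := k) (show b + -a = b - a by ring)
  exact Groth.L22.PDual.subsingleton_ext_of_twist e i _ (Groth.L22.Reg.subsingleton_iso e'.symm (i + 1) h)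

theorem extend {C : Type*} [Category C] [Abelian C] [HasExt.{u} C] {A B D Y : C} {f : A ⟶ B} {g : B ⟶ D} {w : f ≫ g = 0}
    (hS : (ShortComplex.mk f g w).ShortExact) (h : Subsingleton (Ext D Y 1)) (φ : A ⟶ Y) :
    ∃ ψ : B ⟶ Y, f ≫ ψ = φ := by
  obtain ⟨x, hx⟩ := Ext.contravariant_sequence_exact₁ hS Y (Ext.mk₀ φ) (add_zero 1) (h.elim _ _)
  obtain ⟨ψ, rfl⟩ := (Ext.mk₀_bijective _ _).2 x
  rw [Ext.mk₀_comp_mk₀] at hx
  exact ⟨ψ, (Ext.mk₀_bijective _ _).1 hx⟩

variable [CharZero k]

theorem shortExact_P :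
    (ShortComplex.mk (kernel.ι (P n k)) (P n k) (kernel.condition (P n k))).ShortExact :=
  haveI : Epi (P n k) := epi_of_st n k _ (surjective_P n k)
  { exact := ShortComplex.exact_kernel (P n k)
    mono_f := inferInstanceAs (Mono (kernel.ι (P n k)))
    epi_g := inferInstanceAs (Epi (P n k)) }

theorem shortExact_q :
    (ShortComplex.mk (kernel.ι (q n k)) (q n k) (kernel.condition (q n k))).ShortExact :=
  haveI := epi_q n k
  { exact := ShortComplex.exact_kernel (q n k)
    mono_f := inferInstanceAs (Mono (kernel.ι (q n k)))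
    epi_g := inferInstanceAs (Epi (q n k)) }

/-- Ext between sums of twists. -/
theorem ext_Fr [HasExt.{u} (PS n k).Modules] {N M : ℕ} (a b : ℤ) (i : ℕ)
    (h : Subsingleton (Coh.HH (CohB1.ProjSpace n k) (O' n k (-b - -a)) (i + 1))) :
    Subsingleton (Ext (Fr (r := n) (k := k) fun _ : Fin N => a) (Fr (r := n) (k := k) fun _ : Fin M => b) (i + 1)) :=
  ext_sigma_right (X := PS n k) (fun _ : Fin M => Twist.twist (CohB1.polyGrading n k) (-b)) _ (i + 1) fun _ =>
    Groth.L03.VBPn.ext_sigma_subsingleton (X := PS n k) (fun _ : Fin N => Twist.twist (CohB1.polyGrading n k) (-a)) _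
      (i + 1) fun _ => ext_twist n k (-a) (-b) i h

theorem ext_one_K [HasExt.{u} (PS n k).Modules] :
    Subsingleton (Ext (kernel (P n k)) (Fr (r := n) (k := k) (d0 n)) 1) := by
  haveI h2 : Subsingleton (Ext (Fr (r := n) (k := k) d2) (Fr (r := n) (k := k) (d0 n)) 2) :=
    ext_Fr n k (-2) 0 1 (Groth.L16.ProjSpace.subsingleton_HH_twist n k (-0 - -(-2)) 2 (by omega) (by omega))
  haveI h1 : Subsingleton (Ext (Fr (r := n) (k := k) (d1 n)) (Fr (r := n) (k := k) (d0 n)) 1) :=
    ext_Fr n k (-1) 0 0 (Groth.L16.ProjSpace.subsingleton_HH_twist n k (-0 - -(-1)) 1 (by omega) (by omega))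
  refine subsingleton_of_forall_eq 0 fun x => ?_
  obtain ⟨y, rfl⟩ := Ext.contravariant_sequence_exact₁ (shortExact_P n k) (Fr (r := n) (k := k) (d0 n)) x
    (n₁ := 2) rfl (h2.elim _ _)
  rw [h1.elim y 0, Ext.comp_zero]

/-- Endomorphisms of the Tango bundle are scalars. -/
theorem exists_smul_id (hn : 2 ≤ n) (φ : (kernel (q n k) : (CohB1.ProjSpace n k).Modules) ⟶ kernel (q n k)) :
    ∃ c : k, φ = c • 𝟙 _ := by
  classical
  haveI := Groth.L00.Tensor.grothendieckAbelian_modules (PS n k)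
  haveI : HasExt.{u} (PS n k).Modules := inferInstance
  -- extend to `O^(2n-1)`
  obtain ⟨A, hA⟩ := extend (shortExact_q n k) (ext_one_K n k) (φ ≫ kernel.ι (q n k))
  obtain ⟨g, hg⟩ : ∃ g : kernel (P n k) ⟶ kernel (P n k), q n k ≫ g = A ≫ q n k :=
    ⟨(shortExact_q n k).gIsCokernel.desc (CokernelCofork.ofπ (A ≫ q n k) (by
        show kernel.ι (q n k) ≫ A ≫ q n k = 0
        rw [reassoc_of% hA, kernel.condition, comp_zero])),
      (shortExact_q n k).gIsCokernel.fac _ WalkingParallelPair.one⟩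
  -- extend to `O(1)^(n+1)`
  have h21 : Subsingleton (Ext (Fr (r := n) (k := k) d2) (Fr (r := n) (k := k) (d1 n)) 1) :=
    ext_Fr n k (-2) (-1) 0
        (Groth.L16.ProjSpace.subsingleton_HH_twist n k (-(-1) - -(-2)) 1 (by omega) (by omega))
  obtain ⟨B, hB⟩ := extend (shortExact_P n k) h21 (g ≫ kernel.ι (P n k))
  have hcomm : A ≫ Φ n k = Φ n k ≫ B := by
    rw [← q_ι, ← reassoc_of% hg, Category.assoc, hB]
  obtain ⟨a, ha⟩ := exists_eq_matHom 0 A
  obtain ⟨b, hb⟩ := exists_eq_matHom (-1) B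
  obtain ⟨x⟩ : Nonempty (PS n k) := by
    haveI : IsIntegral (PS n k) := Groth.L16.ProjSpace.isIntegral n k
    infer_instance
  have hmat : ∀ j s, ∑ t, Mx n k j t * MvPolynomial.C (a t s) = ∑ l, MvPolynomial.C (b j l) * Mx n k l s := fun j s => by
    rw [ha, hb] at hcomm
    exact mul_eq_of_comp_eq _ _ _ _ _ _ _ _ (fun _ => rfl) hcomm x j s
  have hcoef : ∀ i j s, ∑ t, cf n k i j t * a t s = ∑ l, b j l * cf n k i l s := fun i j s => by
    have hM : ∀ j t, (Mx n k j t).coeff (Finsupp.single i 1) = cf n k i j t := fun j t => by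
      rw [Mx, MvPolynomial.coeff_sum, Finset.sum_eq_single i]
      · simp
      · intro i' _ hi'
        have : ¬ Finsupp.single i' 1 = Finsupp.single i 1 := fun e => hi' ((Finsupp.single_left_inj one_ne_zero).1 e)
        simp [MvPolynomial.coeff_X', this]
      · exact fun h => absurd (Finset.mem_univ i) h
    have h := congrArg (MvPolynomial.coeff (Finsupp.single i 1)) (hmat j s)
    simp only [MvPolynomial.coeff_sum, MvPolynomial.coeff_C_mul, mul_comm _ (MvPolynomial.C _), hM] at h
    simpa only [mul_comm (cf n k _ _ _)] using h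
  obtain ⟨c, hc⟩ := eq_smul_of_intertwine n k hn a b hcoef
  refine ⟨c, ?_⟩
  have hAc : A = c • 𝟙 (Fr (r := n) (k := k) (d0 n) : (CohB1.ProjSpace n k).Modules) := by
    refine Sigma.hom_ext _ _ fun l => ?_
    rw [ha, matHom, Preadditive.comp_sum, Linear.comp_smul]
    rw [Finset.sum_eq_single l]
    · rw [Preadditive.comp_sum, Finset.sum_eq_single l]
      · rw [reassoc_of% (Groth.L22.SyzTilde.ι_pr_self (d0 n) l), ← smul_id_eq_mulHom _ (a l l) (C_mem_G _), hc,
          if_pos rfl, Linear.smul_comp, Category.id_comp, Category.comp_id]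
      · intro l' _ hl'
        rw [reassoc_of% (Groth.L22.SyzTilde.ι_pr_ne (d0 n) (Ne.symm hl')), zero_comp]
      · exact fun h => absurd (Finset.mem_univ l) h
    · intro t _ ht
      rw [Preadditive.comp_sum]
      refine Finset.sum_eq_zero fun l' _ => ?_
      by_cases hl : l' = l
      · subst hl
        rw [reassoc_of% (Groth.L22.SyzTilde.ι_pr_self (d0 n) l'), ← smul_id_eq_mulHom _ (a t l') (C_mem_G _), hc,
          if_neg ht, zero_smul, zero_comp]
      · rw [reassoc_of% (Groth.L22.SyzTilde.ι_pr_ne (d0 n) (Ne.symm hl)), zero_comp]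
    · exact fun h => absurd (Finset.mem_univ l) h
  refine (cancel_mono (kernel.ι (q n k))).1 ?_
  rw [← hA, hAc, Linear.comp_smul, Category.comp_id, Linear.smul_comp, Category.id_comp]

end Groth.L03.VBPn.Tango
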