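import Groth.Agent.L22.SyzTilde.Free
import Mathlib.LinearAlgebra.Matrix.Block
import Mathlib.RingTheory.MvPolynomial.Homogeneous
import Mathlib.Algebra.CharP.Algebra

/-!
# The matrix of linear forms of a Tango bundle

`e_i ∧ e_j ↦ (j - i) e_{i+j-1}`: no decomposable tensor is killed, as the minors below show.
-/

set_option autoImplicit false
set_option linter.unusedSectionVars false

universe u

open MvPolynomial

noncomputable section

namespace Groth.L03.VBPn.Tango

variable (n : ℕ) (k : Type u) [Field k]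

/-- The structure constants. -/
def cf (i j : Fin (n + 1)) (s : Fin (2 * n - 1)) : k :=
  if i.1 + j.1 = s.1 + 1 then (j.1 : k) - (i.1 : k) else 0

/-- The matrix of linear forms. -/
def Mx (j : Fin (n + 1)) (s : Fin (2 * n - 1)) : MvPolynomial (Fin (n + 1)) k :=
  ∑ i, C (cf n k i j s) * X i

theorem isHomogeneous_Mx (j : Fin (n + 1)) (s : Fin (2 * n - 1)) : (Mx n k j s).IsHomogeneous 1 :=
  IsHomogeneous.sum _ _ _ fun i _ => (isHomogeneous_X k i).C_mul _

theorem cf_swap (i j : Fin (n + 1)) (s : Fin (2 * n - 1)) : cf n k j i s = - cf n k i j s := by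
  unfold cf
  rw [add_comm j.1 i.1]
  split_ifs <;> simp

variable [CharZero k]

theorem sum_X_mul_Mx (s : Fin (2 * n - 1)) : ∑ j, X j * Mx n k j s = 0 := by
  have h : ∑ j, X j * Mx n k j s = -∑ j, X j * Mx n k j s := by
    simp only [Mx, Finset.mul_sum, ← Finset.sum_neg_distrib]
    rw [Finset.sum_comm]
    refine Finset.sum_congr rfl fun i _ => Finset.sum_congr rfl fun j _ => ?_
    rw [cf_swap n k j i s, map_neg]
    ring
  haveI : CharZero (MvPolynomial (Fin (n + 1)) k) :=
    charZero_of_injective_algebraMap (R := k) (MvPolynomial.C_injective (Fin (n + 1)) k)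
  exact CharZero.eq_neg_self_iff.1 h

/-- The columns of the minor at `a`. -/
def col (a : Fin (n + 1)) (q : Fin n) : Fin (2 * n - 1) :=
  ⟨a.1 + (a.succAbove q).1 - 1, by
    have h : a.1 ≠ (a.succAbove q).1 := fun h => Fin.succAbove_ne a q (Fin.ext h.symm)
    omega⟩

/-- The minor at `a`. -/
def minor (a : Fin (n + 1)) : Matrix (Fin n) (Fin n) (MvPolynomial (Fin (n + 1)) k) :=
  fun p q => Mx n k (a.succAbove p) (col n a q)

/-- The minor at the first coordinate not in a prime is not in it. -/
theorem exists_minor (I : Ideal (MvPolynomial (Fin (n + 1)) k)) [I.IsPrime]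
    (hI : ∃ i, (X i : MvPolynomial (Fin (n + 1)) k) ∉ I) :
    ∃ a : Fin (n + 1), (X a : MvPolynomial (Fin (n + 1)) k) ∉ I ∧ (minor n k a).det ∉ I := by
  classical
  obtain ⟨a, ha, hmin⟩ := (wellFounded_lt (α := Fin (n + 1))).has_min
    {i | (X i : MvPolynomial (Fin (n + 1)) k) ∉ I} hI
  refine ⟨a, ha, fun hD => ?_⟩
  let π := Ideal.Quotient.mk I
  have hlt : ∀ i, i < a → π (X i) = 0 := fun i hi =>
    Ideal.Quotient.eq_zero_iff_mem.2 (not_not.1 fun h => hmin i h hi)
  have hval : ∀ p q, ∀ i : Fin (n + 1), cf n k i (a.succAbove p) (col n a q) ≠ 0 →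
      i.1 + (a.succAbove p).1 = a.1 + (a.succAbove q).1 := fun p q i h => by
    have hq : a.1 ≠ (a.succAbove q).1 := fun h => Fin.succAbove_ne a q (Fin.ext h.symm)
    unfold cf col at h
    split_ifs at h with h'
    · simp only at h'
      omega
    · exact absurd rfl h
  have hT : ((minor n k a).map π).BlockTriangular id := fun p q hqp => by
    simp only [id] at hqp
    rw [Matrix.map_apply, minor, Mx, map_sum]
    refine Finset.sum_eq_zero fun i _ => ?_
    by_cases h : cf n k i (a.succAbove p) (col n a q) = 0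
    · simp [h]
    · have h1 := hval p q i h
      have h2 : (a.succAbove q).1 < (a.succAbove p).1 := (Fin.strictMono_succAbove a) hqp
      rw [map_mul, hlt i (show i.1 < a.1 by omega), mul_zero]
  have hdet : π (minor n k a).det = 0 := Ideal.Quotient.eq_zero_iff_mem.2 hD
  rw [RingHom.map_det, RingHom.mapMatrix_apply, Matrix.det_of_isUpperTriangular hT, Finset.prod_eq_zero_iff] at hdet
  obtain ⟨q, -, hq⟩ := hdet
  rw [Matrix.map_apply, minor, Mx, map_sum, Finset.sum_eq_single a] at hq
  · have hne : cf n k a (a.succAbove q) (col n a q) ≠ 0 := by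
      have hq' : a.1 ≠ (a.succAbove q).1 := fun h => Fin.succAbove_ne a q (Fin.ext h.symm)
      unfold cf col
      rw [if_pos (by simp only; omega), sub_ne_zero]
      exact_mod_cast hq'.symm
    rw [map_mul, mul_eq_zero, Ideal.Quotient.eq_zero_iff_mem, Ideal.Quotient.eq_zero_iff_mem] at hq
    rcases hq with hq | hq
    · exact ‹I.IsPrime›.ne_top (Ideal.eq_top_of_isUnit_mem _ hq ((isUnit_iff_ne_zero.2 hne).map C))
    · exact ha hq
  · intro i _ hi
    by_cases h : cf n k i (a.succAbove q) (col n a q) = 0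
    · simp [h]
    · exact absurd (Fin.ext (by have := hval q q i h; omega)) hi
  · exact fun h => absurd (Finset.mem_univ a) h

/-- The stabiliser is scalar. -/
theorem eq_smul_of_intertwine (hn : 2 ≤ n) (A : Fin (2 * n - 1) → Fin (2 * n - 1) → k) (B : Fin (n + 1) → Fin (n + 1) → k)
    (h : ∀ i j s, ∑ t, cf n k i j t * A t s = ∑ l, B j l * cf n k i l s) :
    ∃ c : k, ∀ t s, A t s = if t = s then c else 0 := by
  classical
  have hone : ∀ i j : Fin (n + 1), i ≠ j → ∃ t : Fin (2 * n - 1), i.1 + j.1 = t.1 + 1 := fun i j hij =>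
    ⟨⟨i.1 + j.1 - 1, by have := Fin.val_ne_of_ne hij; omega⟩, by
      have := Fin.val_ne_of_ne hij
      simp only
      omega⟩
  have hB : ∀ i l, l ≠ i → B i l = 0 := fun i l hl => by
    obtain ⟨s, hs⟩ := hone i l (Ne.symm hl)
    have h1 := h i i s
    rw [Finset.sum_eq_zero fun t _ => by simp [cf]] at h1
    rw [Finset.sum_eq_single l] at h1
    · rw [cf, if_pos hs, eq_comm, mul_eq_zero, sub_eq_zero] at h1
      refine h1.resolve_right ?_
      exact_mod_cast Fin.val_ne_of_ne hl
    · intro l' _ hl'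
      rw [cf, if_neg, mul_zero]
      exact fun hs' => hl' (Fin.ext (by omega))
    · exact fun h => absurd (Finset.mem_univ l) h
  have hR : ∀ i j s, ∑ t, cf n k i j t * A t s = B j j * cf n k i j s := fun i j s => by
    rw [h, Finset.sum_eq_single j]
    · intro l _ hl
      rw [hB j l hl, zero_mul]
    · exact fun h => absurd (Finset.mem_univ j) h
  have hd : ∀ i j, i ≠ j → B i i = B j j := fun i j hij => by
    obtain ⟨s, hs⟩ := hone i j hij
    have h1 := hR i j s
    have h2 := hR j i s
    simp only [cf_swap n k i j, neg_mul, Finset.sum_neg_distrib, mul_neg] at h2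
    rw [neg_inj, h1] at h2
    refine mul_right_cancel₀ ?_ h2.symm
    rw [cf, if_pos hs, sub_ne_zero]
    exact_mod_cast (Fin.val_ne_of_ne hij).symm
  refine ⟨B 0 0, fun t s => ?_⟩
  obtain ⟨i, j, hij, ht⟩ : ∃ i j : Fin (n + 1), i ≠ j ∧ i.1 + j.1 = t.1 + 1 := by
    by_cases h : t.1 + 1 ≤ n
    · exact ⟨0, ⟨t.1 + 1, by omega⟩, fun e => by simpa using congrArg Fin.val e, by simp⟩
    · exact ⟨⟨t.1 + 1 - n, by omega⟩, ⟨n, by omega⟩, fun e => by
        have := congrArg Fin.val e
        simp only at this
        have := t.2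
        omega, by simp only; omega⟩
  have h1 := hR i j s
  rw [Finset.sum_eq_single t] at h1
  · have hc : cf n k i j t ≠ 0 := by
      rw [cf, if_pos ht, sub_ne_zero]
      exact_mod_cast (Fin.val_ne_of_ne hij).symm
    have hj : B j j = B 0 0 := by
      by_cases h0 : j = 0
      · rw [h0]
      · exact hd j 0 h0
    rw [hj] at h1
    split_ifs with hts
    · subst hts
      exact mul_left_cancel₀ hc (h1.trans (mul_comm _ _))
    · have h0 : cf n k i j s = 0 := by
        rw [cf, if_neg]
        exact fun e => hts (Fin.ext (by omega))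
      rw [h0, mul_zero] at h1
      exact (mul_eq_zero.1 h1).resolve_left hc
  · intro t' _ ht'
    rw [cf, if_neg, zero_mul]
    exact fun e => ht' (Fin.ext (by omega))
  · exact fun h => absurd (Finset.mem_univ t) h

end Groth.L03.VBPn.Tango
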