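import Groth.Agent.L03.VBPn.Tango.Maps
import Groth.Agent.L29.DCoh.Amplitude
import Groth.Agent.L29.DCoh.TensorPerfect
import Groth.Agent.L22.Adjunction.Seq
import Groth.Agent.L18.KRRAmple

/-!
# The Tango bundle: the kernel of `O^(2n-1) → Ω(2)`
-/

set_option autoImplicit false
set_option linter.style.haveILetI false
set_option linter.unusedSectionVars false
set_option backward.isDefEq.respectTransparency false
set_option backward.isDefEq.respectTransparency.types false

universe u

open CategoryTheory CategoryTheory.Limits AlgebraicGeometry TopologicalSpace Opposite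
open Groth.L22.SyzTilde (G S PS Fr pr st theta matHom toLoc theta_matHom theta_injective theta_zero exists_theta_eq
  exists_common st_comp st_zero mem_G_cast)

noncomputable section

namespace Groth.L03.VBPn.Tango

variable (n : ℕ) (k : Type u) [Field k]

/-- Degrees of `O^(2n-1)`. -/
abbrev d0 : Fin (2 * n - 1) → ℤ := fun _ => 0
/-- Degrees of `O(1)^(n+1)`. -/
abbrev d1 : Fin (n + 1) → ℤ := fun _ => -1
/-- Degree of `O(2)`. -/
abbrev d2 : Fin 1 → ℤ := fun _ => -2

theorem Mx_mem (a : Fin (n + 1)) (b : Fin (2 * n - 1)) : Mx n k a b ∈ G n k (d0 n b - d1 n a) := by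
  rw [show d0 n b - d1 n a = ((1 : ℕ) : ℤ) from rfl, mem_G_cast]
  exact isHomogeneous_Mx n k a b

theorem X_mem (a : Fin 1) (b : Fin (n + 1)) : (MvPolynomial.X b : S n k) ∈ G n k (d1 n b - d2 a) := by
  rw [show d1 n b - d2 a = ((1 : ℕ) : ℤ) from rfl, mem_G_cast]
  exact MvPolynomial.isHomogeneous_X _ _

/-- `O^(2n-1) → O(1)^(n+1)`. -/
def Φ : Fr (r := n) (k := k) (d0 n) ⟶ Fr (d1 n) := matHom (Mx n k) (Mx_mem n k)

/-- `O(1)^(n+1) → O(2)`. -/
def P : Fr (r := n) (k := k) (d1 n) ⟶ Fr d2 := matHom (fun _ b => MvPolynomial.X b) (X_mem n k)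

variable [CharZero k]

theorem Φ_P : Φ n k ≫ P n k = 0 := comp_eq_zero _ _ _ _ fun _ c => sum_X_mul_Mx n k c

/-- The map onto `Ω(2)`. -/
def q : Fr (r := n) (k := k) (d0 n) ⟶ kernel (P n k) := kernel.lift _ (Φ n k) (Φ_P n k)

theorem q_ι : q n k ≫ kernel.ι (P n k) = Φ n k := kernel.lift_ι _ _ _

theorem exists_X_notMem (x : ProjectiveSpectrum (CohB1.polyGrading n k)) :
    ∃ i, (MvPolynomial.X i : S n k) ∉ x.asHomogeneousIdeal.toIdeal := by
  obtain ⟨i, hi⟩ := Groth.L16.ProjSpace.exists_mem_basicOpen_X n k x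
  exact ⟨i, fun h => (Proj.mem_basicOpen _ _ _).1 hi h⟩

theorem epi_of_st {A B : (PS n k).Modules} (f : A ⟶ B) (h : ∀ x, Function.Surjective (st x f)) : Epi f :=
  Groth.L21.Mod.epi_iff_stalk f |>.2 fun x => (AddCommGrpCat.epi_iff_surjective _).2 (h x)

theorem surjective_P (x : ProjectiveSpectrum (CohB1.polyGrading n k)) : Function.Surjective (st x (P n k)) := by
  classical
  intro z
  obtain ⟨j, s, hs, g, hg, hz⟩ := exists_common d2 x z
  obtain ⟨a, ha⟩ := exists_X_notMem n k x
  let s' : CohB1.polyGrading n k (j + 1) := ⟨s.1 * MvPolynomial.X a,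
    SetLike.mul_mem_graded s.2 (MvPolynomial.isHomogeneous_X k a)⟩
  have hs' : s'.1 ∉ x.asHomogeneousIdeal := fun h => (x.isPrime.mem_or_mem h).elim hs ha
  obtain ⟨y, hy⟩ := exists_theta_eq (d1 n) x s' hs' (Pi.single a (g 0)) fun b => by
    by_cases h : b = a
    · subst h
      rw [Pi.single_eq_same]
      have h2 := hg 0
      rwa [show (j : ℤ) - d2 (0 : Fin 1) = ((j + 1 : ℕ) : ℤ) - d1 n b by simp; omega] at h2
    · rw [Pi.single_eq_of_ne h]
      exact zero_mem _
  refine ⟨y, theta_injective _ x (funext fun c => ?_)⟩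
  rw [P, theta_matHom, Subsingleton.elim c 0, hz, Finset.sum_eq_single a]
  · rw [hy, Pi.single_eq_same, toLoc, Localization.mk_mul, Localization.mk_eq_mk_iff, Localization.r_iff_exists]
    exact ⟨1, by simp [s']; ring⟩
  · intro b _ hb
    rw [hy, Pi.single_eq_of_ne hb, Localization.mk_zero, mul_zero]
  · exact fun h => absurd (Finset.mem_univ a) h

theorem isHomogeneous_det {m : ℕ} (A : Matrix (Fin m) (Fin m) (S n k)) (e : Fin m → ℕ)
    (h : ∀ i j, (A i j).IsHomogeneous (e i)) : A.det.IsHomogeneous (∑ i, e i) := by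
  rw [Matrix.det_apply']
  refine MvPolynomial.IsHomogeneous.sum _ _ _ fun σ _ => ?_
  rw [show ((Equiv.Perm.sign σ : ℤ) : S n k) = MvPolynomial.C ((Equiv.Perm.sign σ : ℤ) : k) from (map_intCast _ _).symm]
  refine MvPolynomial.IsHomogeneous.C_mul ?_ _
  have := MvPolynomial.IsHomogeneous.prod Finset.univ (fun i => A (σ i) i) (fun i => e (σ i)) fun i _ => h _ _
  rwa [Equiv.sum_comp σ e] at this

/-- A solution of the linear system at a point. -/
theorem exists_solution (x : ProjectiveSpectrum (CohB1.polyGrading n k))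
    (w : (Groth.L21.Mod.stalkF (PS n k) x).obj (Fr (d1 n))) (hw : st x (P n k) w = 0) :
    ∃ y, st x (Φ n k) y = w := by
  classical
  obtain ⟨a, ha, hD⟩ := exists_minor n k x.asHomogeneousIdeal.toIdeal (exists_X_notMem n k x)
  obtain ⟨j, s, hs, g, hg, hz⟩ := exists_common (d1 n) x w
  set A := minor n k a
  have hA : ∀ p q, (A p q).IsHomogeneous 1 := fun p q => isHomogeneous_Mx n k _ _
  have hadj : ∀ p q, (A.adjugate p q).IsHomogeneous (n - 1) := fun p q => by
    rw [Matrix.adjugate_apply]
    have h := isHomogeneous_det n k (A.updateRow q (Pi.single p 1)) (fun i => if i = q then 0 else 1) fun i l => by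
      by_cases hi : i = q
      · subst hi
        rw [Matrix.updateRow_self, if_pos rfl]
        by_cases hl : l = p
        · subst hl
          rw [Pi.single_eq_same]
          exact MvPolynomial.isHomogeneous_one _ _
        · rw [Pi.single_eq_of_ne hl]
          exact MvPolynomial.isHomogeneous_zero _ _ _
      · rw [Matrix.updateRow_ne hi, if_neg hi]
        exact hA i l
    rwa [Finset.sum_ite, Finset.sum_const_zero, zero_add, Finset.sum_const, smul_eq_mul, mul_one,
      Finset.filter_ne' Finset.univ q, Finset.card_erase_of_mem (Finset.mem_univ q), Finset.card_univ,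
      Fintype.card_fin] at h
  have hDh : A.det.IsHomogeneous n := by
    have h := isHomogeneous_det n k A (fun _ => 1) hA
    simpa using h
  let s' : CohB1.polyGrading n k (n + j) := ⟨A.det * s.1, SetLike.mul_mem_graded hDh s.2⟩
  have hs' : s'.1 ∉ x.asHomogeneousIdeal := fun h => (x.isPrime.mem_or_mem h).elim hD hs
  let sol : Fin n → S n k := fun p => ∑ q, A.adjugate p q * g (a.succAbove q)
  let g' : Fin (2 * n - 1) → S n k := fun t => ∑ p, if col n a p = t then sol p else 0
  obtain ⟨y, hy⟩ := exists_theta_eq (d0 n) x s' hs' g' fun t => by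
    rw [show ((n + j : ℕ) : ℤ) - d0 n t = ((n + j : ℕ) : ℤ) from sub_zero _]
    refine sum_mem fun p _ => ?_
    split_ifs with h
    · refine sum_mem fun q _ => ?_
      have hn : 1 ≤ n := by have := p.2; omega
      have hgq := hg (a.succAbove q)
      rw [show (j : ℤ) - d1 n (a.succAbove q) = ((j + 1 : ℕ) : ℤ) by simp] at hgq
      have h2 := SetLike.mul_mem_graded (hadj p q) ((mem_G_cast (r := n) (k := k)).1 hgq)
      rw [show n - 1 + (j + 1) = n + j by omega] at h2
      exact mem_G_cast.2 h2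
    · exact zero_mem _
  let F := algebraMap (S n k) (Twist.Loc (CohB1.polyGrading n k) x)
  have hmain : ∀ p, theta (d1 n) x (st x (Φ n k) y) (a.succAbove p) = theta (d1 n) x w (a.succAbove p) := fun p => by
    rw [Φ, theta_matHom, hz]
    simp only [hy, toLoc, Localization.mk_mul]
    simp only [show ∀ t : x.asHomogeneousIdeal.toIdeal.primeCompl,
      (⟨1, Groth.L16.ProjTwist.one_notMem _ x⟩ : x.asHomogeneousIdeal.toIdeal.primeCompl) * t = t from
        fun t => Subtype.ext (one_mul _)]
    rw [Groth.L22.SyzTilde.sum_mk_loc, Localization.mk_eq_mk_iff, Localization.r_iff_exists]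
    refine ⟨1, ?_⟩
    have hsum : ∑ t, Mx n k (a.succAbove p) t * g' t = (A * A.adjugate).mulVec (fun q => g (a.succAbove q)) p := by
      rw [← Matrix.mulVec_mulVec]
      simp only [g', Finset.mul_sum, mul_ite, mul_zero]
      rw [Finset.sum_comm]
      refine Finset.sum_congr rfl fun q _ => ?_
      rw [Finset.sum_ite_eq, if_pos (Finset.mem_univ _)]
      rfl
    rw [hsum, Matrix.mul_adjugate, Matrix.smul_mulVec, Matrix.one_mulVec]
    simp only [OneMemClass.coe_one, one_mul, Pi.smul_apply, smul_eq_mul, s']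
    ring
  have hrel : ∀ v, st x (P n k) v = 0 → ∑ b, F (MvPolynomial.X b) * theta (d1 n) x v b = 0 := fun v hv => by
    have h := congrArg (fun z => theta d2 x z 0) hv
    simp only [theta_zero, P, theta_matHom, toLoc_eq] at h
    exact h
  refine ⟨y, theta_injective _ x (funext fun c => ?_)⟩
  rcases eq_or_ne c a with rfl | hc
  · have h1 := hrel w hw
    have h2 := hrel (st x (Φ n k) y) (by rw [← st_comp, Φ_P, st_zero])
    rw [Fin.sum_univ_succAbove _ c] at h1 h2
    simp only [hmain] at h2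
    have hu : IsUnit (F (MvPolynomial.X c)) := IsLocalization.map_units _
      (⟨_, ha⟩ : x.asHomogeneousIdeal.toIdeal.primeCompl)
    exact hu.mul_left_cancel (by linear_combination h2 - h1)
  · obtain ⟨p, rfl⟩ := Fin.exists_succAbove_eq hc
    exact hmain p

theorem epi_q : Epi (q n k) := by
  refine epi_of_st n k _ fun x z => ?_
  obtain ⟨y, hy⟩ := exists_solution n k x (st x (kernel.ι (P n k)) z)
    (by rw [← st_comp, kernel.condition, st_zero])
  refine ⟨y, ?_⟩
  have hinj : Function.Injective (st x (kernel.ι (P n k))) :=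
    (AddCommGrpCat.mono_iff_injective _).1 (inferInstance : Mono ((Groth.L21.Mod.stalkF (PS n k) x).map (kernel.ι (P n k))))
  exact hinj (by rw [← st_comp, q_ι, hy])

/-- A sum of copies of an invertible module. -/
theorem isFinLocFreeOfRank_sum {X : Scheme.{u}} {L : X.Modules} (hL : PicF.IsInvertible L) (N : ℕ) :
    FlatMod.IsFinLocFreeOfRank N (∐ fun _ : Fin N => L) := fun x => by
  obtain ⟨U, hx, ⟨e⟩⟩ := Groth.L12.FinCov.isFinLocFreeOfRank_one_of_isInvertible hL x
  let e1 : (Scheme.Modules.restrictFunctor U.ι).obj L ≅ Coh.structureModule (↑U) :=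
    e ≪≫ coproductUniqueIso (fun _ : Fin 1 => Coh.structureModule (↑U : Scheme.{u}))
  exact ⟨U, hx, ⟨PreservesCoproduct.iso (Scheme.Modules.restrictFunctor U.ι) _ ≪≫ Sigma.mapIso fun _ => e1⟩⟩

theorem isFinLocFree_of_rank {X : Scheme.{u}} {M : X.Modules} {r : ℕ} (h : FlatMod.IsFinLocFreeOfRank r M) :
    FlatMod.IsFinLocFree M := fun x => (h x).imp fun _ h => ⟨r, h⟩

theorem rank_kernel {X : Scheme.{u}} [IsIntegral X] {A B : X.Modules} (p : A ⟶ B) [Epi p] {m c : ℕ}
    (hA : FlatMod.IsFinLocFreeOfRank m A) (hB : FlatMod.IsFinLocFreeOfRank c B) :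
    FlatMod.IsFinLocFreeOfRank (m - c) (kernel p) := by
  have hK := Groth.L29.DC.isFinLocFree_kernel_of_epi p (isFinLocFree_of_rank hA) (isFinLocFree_of_rank hB)
  obtain ⟨r, hr⟩ := Groth.L18.KRRAmple.exists_rank hK
  obtain ⟨x⟩ := (inferInstance : Nonempty X)
  obtain ⟨U, eK, hxU, -, heK⟩ := Groth.L22.CurveDeg.Det.exists_affine_basis hr x ⊤ trivial
  have hT : (ShortComplex.mk (kernel.ι p) p (kernel.condition _)).ShortExact :=
    { exact := ShortComplex.exact_kernel p
      mono_f := inferInstanceAs (Mono (kernel.ι p))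
      epi_g := inferInstanceAs (Epi p) }
  have h1 := Groth.L22.Adjunction.rank_add hT heK hxU hA hB
  exact (show m - c = r by omega) ▸ hr

theorem isFinLocFreeOfRank_kernel_q : FlatMod.IsFinLocFreeOfRank (n - 1) (kernel (q n k)) := by
  haveI := epi_q n k
  haveI : Epi (P n k) := epi_of_st n k _ (surjective_P n k)
  haveI : IsIntegral (PS n k) := Groth.L16.ProjSpace.isIntegral n k
  have hinv := fun d : ℤ => Groth.L16.ProjTwist.isInvertible_twistProjSpace n k d
  have hK := rank_kernel (P n k) (isFinLocFreeOfRank_sum (hinv (-(-1))) (n + 1)) (isFinLocFreeOfRank_sum (hinv (-(-2))) 1)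
  rw [Nat.add_sub_cancel] at hK
  have h := rank_kernel (q n k) (isFinLocFreeOfRank_sum (hinv (-0)) (2 * n - 1)) hK
  rwa [show 2 * n - 1 - n = n - 1 by omega] at h

end Groth.L03.VBPn.Tango
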